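import Cfsg.Agent.BpExc.FamTwSix
import Cfsg.Agent.BpExc.AsmN_m3
import Cfsg.Agent.BpExc.EmbInst
import Cfsg.Agent.H129.TorusUntw
import Cfsg.Agent.S1102
import Cfsg.Agent.S1106
import Cfsg.Agent.FastGrp
import Cfsg.Agent.Prune
set_option linter.all false
prune_inst 0x7f00000000000000000000000000000000000000000000000000000000000000000000000000000000000000000000000000000000000000000000000000000000000000000000000000000000000000003fffffffffffffffffffffffffffbeffbdffffffff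
open scoped Cfsg.Agent.FastGrp

/-!
# The Steinberg endomorphisms of type ²E₆ and ³D₄ and their fixed points (helper720)

The first part is a copy, with a small import closure, of a part of `BpTab.Final`
(`Cfsg.Agent.BpExc.FamTw.Frame`: the graph automorphisms are frame automorphisms).

* `desc6` : `y ^ gcd(3, q + 1) ∈ ²E₆(q)` for every fixed point `y` of the Steinberg endomorphism;
* `desc4` : the fixed points of the Steinberg endomorphism of type ³D₄ form the group ³D₄(q).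
-/

set_option autoImplicit false
set_option linter.unusedSectionVars false
set_option maxHeartbeats 400000

namespace Cfsg.Agent.H720.TwFr

open CoxeterSystem Cfsg Cfsg.Lie Cfsg.Agent.ChevalleyStructure Cfsg.Agent.ChevalleyStructure.Elts
  Cfsg.Agent.ChevalleyStructure.CoxeterGeom Cfsg.Agent.ChevalleyStructure.CoxeterGeomTypes
  Cfsg.Agent.ChevalleyStructure.NPerm Cfsg.Agent.ChevalleyStructure.SignedSymm Cfsg.Agent.Tits.Roots
  Cfsg.Agent.Tits.Core Cfsg.Agent.Nodes.Reps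
  Cfsg.Agent.Nodes.BNOf Cfsg.Agent.Nodes.RGDChev Cfsg.Agent.KFacts.RgdChevCoord Cfsg.Agent.LangThm
  Cfsg.Agent.BpExc.Fr Cfsg.Agent.BpExc.LangFr Cfsg.Agent.BpExc.Tow Cfsg.Agent.BpExc.TowChev
  Cfsg.Agent.BpExc.FamInst Cfsg.Agent.BpExc.FamUntw Cfsg.Agent.BpExc.FamTw.Gr
open Cfsg.Agent.ChevalleyStructure.GraphSymm (symmE6 symmD4a)

universe u v

/-- the permutation of the coordinates -/
def permE {l : ℕ} (ρ : Equiv.Perm (Fin l)) : (Fin l → ℤ) ≃+ (Fin l → ℤ) where
  toFun a := fun i => a (ρ.symm i)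
  invFun a := fun i => a (ρ i)
  left_inv a := by funext i; exact congrArg a (ρ.symm_apply_apply i)
  right_inv a := by funext i; exact congrArg a (ρ.apply_symm_apply i)
  map_add' _ _ := rfl

section

variable {D : ChevalleyDatum} {l : ℕ} {M : CoxeterMatrix (Fin l)} (hp : IsType D l M) (S : Symm D)
  {k : Type u} [Field k] {W : Type v} [Group W] (cs : CoxeterSystem M W)

theorem gr_isFrob (hD : InList D) (r : ℕ) [Fact r.Prime] [CharP k r] : IsFrob r 0 (gr (L := k) hD S) :=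
  ⟨S.P k, fun g => by rw [frob_zero]; rfl⟩

theorem mem_XX {r : ℕ} (hr : r < D.nroots) (y : ↥(D.group k)) :
    y ∈ XX D l k (vec D l r) ↔ ∃ t : k, (y : GL D.Idx k) = xG hp.inList r t := by
  show (y : GL D.Idx k) ∈ XV D l k (vec D l r) ↔ _
  rw [XV_vec hp _ hr, mem_rootSubgroup_iff hp.inList]

theorem gr_mem_XX (r : Fin D.nroots) (y : ↥(D.group k)) :
    gr hp.inList S y ∈ XX D l k (vec D l (S.σ r).val) ↔ y ∈ XX D l k (vec D l r.val) := by
  rw [mem_XX hp (S.σ r).2, mem_XX hp r.2]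
  constructor
  · rintro ⟨t, ht⟩
    refine ⟨((S.ε r : ℤ) : k) * t, ?_⟩
    have h1 := P_xG (L := k) hp.inList S r (((S.ε r : ℤ) : k) * t)
    rw [← mul_assoc, S.ε_sq', one_mul, ← ht, coe_gr] at h1
    exact (mul_left_cancel (mul_right_cancel h1)).symm
  · rintro ⟨t, ht⟩
    exact ⟨((S.ε r : ℤ) : k) * t, by rw [coe_gr, ht, P_xG]⟩

/-- `S` acts on the vectors of the roots by a permutation of the coordinates -/
def VecPerm (D : ChevalleyDatum) (l : ℕ) (S : Symm D) (ρ : Equiv.Perm (Fin l)) : Prop :=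
  ∀ (r : Fin D.nroots) (i : Fin l), vec D l (S.σ r).val i = vec D l r.val (ρ.symm i)

variable {S} {ρ : Equiv.Perm (Fin l)}

theorem VecPerm.vec (hv : VecPerm D l S ρ) (r : Fin D.nroots) : vec D l (S.σ r).val = permE ρ (vec D l r.val) :=
  funext fun i => hv r i

/-- **The graph automorphism is a frame automorphism.** -/
theorem fr_gr {ρ' : Fin l → Fin l} (H : OnSimple D l S ρ') (hv : VecPerm D l S ρ) {n : ℕ}
    (hn : gr (L := k) hp.inList S ^ (n + 1) = 1) :
    Fr cs hp.isCartan (TT D k) (XX D l k) (gr hp.inList S) (permE ρ) where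
  tor t := by
    refine ⟨fun ht => ?_, fun ht => gr_TT hp H ht⟩
    have h1 : ∀ m : ℕ, (gr (L := k) hp.inList S ^ m) (gr hp.inList S t) ∈ TT D k := by
      intro m
      induction m with
      | zero => rw [pow_zero]; exact ht
      | succ m ih => rw [pow_succ', MulAut.mul_apply]; exact gr_TT hp H ih
    have h2 := h1 n
    rw [← MulAut.mul_apply, ← pow_succ, hn] at h2
    exact h2
  root a := by
    rw [isRoot_iff hp cs, isRoot_iff hp cs]
    constructor
    · rintro ⟨s, hs, e⟩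
      obtain ⟨r, hr⟩ := S.σ.surjective ⟨s, hs⟩
      refine ⟨r.val, r.2, (permE ρ).injective ?_⟩
      rw [← hv.vec, hr]
      exact e
    · rintro ⟨r, hr, rfl⟩
      exact ⟨(S.σ ⟨r, hr⟩).val, (S.σ ⟨r, hr⟩).2, hv.vec ⟨r, hr⟩⟩
  map a ha y := by
    obtain ⟨r, hr, rfl⟩ := (isRoot_iff hp cs a).1 ha
    rw [← hv.vec ⟨r, hr⟩]
    exact gr_mem_XX hp S ⟨r, hr⟩ y

end

/-! ### the instances -/

/-- `E₆` -/
def rho6 : Equiv.Perm (Fin 6) where
  toFun := ![5, 1, 4, 3, 2, 0]
  invFun := ![5, 1, 4, 3, 2, 0]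
  left_inv := by decide
  right_inv := by decide

/-- `D₄` -/
def rho4 : Equiv.Perm (Fin 4) where
  toFun := ![2, 1, 3, 0]
  invFun := ![3, 1, 0, 2]
  left_inv := by decide
  right_inv := by decide

theorem vecPerm6 : VecPerm chevE6 6 symmE6 rho6 := by
  unfold VecPerm
  decide +kernel

theorem vecPerm4 : VecPerm chevD4 4 symmD4a rho4 := by
  unfold VecPerm
  decide +kernel

theorem simple_lt6 : ∀ i : Fin 6, chevE6.simple i < chevE6.nroots := by decide +kernel

theorem simple_map6 : ∀ i : Fin 6, (symmE6.σ ⟨chevE6.simple i, simple_lt6 i⟩).val =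
    chevE6.simple ((![5, 1, 4, 3, 2, 0] : Fin 6 → Fin 6) i) := by decide +kernel

theorem simple_eps6 : ∀ i : Fin 6, symmE6.ε ⟨chevE6.simple i, simple_lt6 i⟩ = 1 := by decide +kernel

theorem onSimple6 : OnSimple chevE6 6 symmE6 ![5, 1, 4, 3, 2, 0] where
  map i := ⟨simple_lt6 i, simple_map6 i, simple_eps6 i⟩
  surj := by decide

theorem simple_lt4 : ∀ i : Fin 4, chevD4.simple i < chevD4.nroots := by decide +kernel

theorem simple_map4 : ∀ i : Fin 4, (symmD4a.σ ⟨chevD4.simple i, simple_lt4 i⟩).val =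
    chevD4.simple ((![2, 1, 3, 0] : Fin 4 → Fin 4) i) := by decide +kernel

theorem simple_eps4 : ∀ i : Fin 4, symmD4a.ε ⟨chevD4.simple i, simple_lt4 i⟩ = 1 := by decide +kernel

theorem onSimple4 : OnSimple chevD4 4 symmD4a ![2, 1, 3, 0] where
  map i := ⟨simple_lt4 i, simple_map4 i, simple_eps4 i⟩
  surj := by decide

theorem inListE6 : InList chevE6 := by unfold InList; simp

theorem inListD4 : InList chevD4 := by unfold InList; simp

section

variable {k : Type u} [Field k] {W : Type v} [Group W]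

theorem gr_sq6 (hD : InList chevE6) : gr (L := k) hD symmE6 ^ 2 = 1 := gr_sq hD symmE6 (by decide +kernel)

theorem gr_cube4 (hD : InList chevD4) : gr (L := k) hD symmD4a ^ 3 = 1 := gr_cube hD symmD4a (by decide +kernel)

variable (hk : LocFin k) (r : ℕ) [Fact r.Prime] [CharP k r] [PerfectRing k r]

/-- **The Steinberg automorphism `gr * (a ↦ a ^ r ^ m)` of `E₆(k)`.** -/
noncomputable abbrev sig6 (k : Type u) [Field k] (r : ℕ) [Fact r.Prime] [CharP k r] [PerfectRing k r] (m : ℕ) :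
    MulAut ↥(chevE6.group k) := gr inListE6 symmE6 * phi chevE6 k r m

/-- **The Steinberg automorphism `gr * (a ↦ a ^ r ^ m)` of `D₄(k)`.** -/
noncomputable abbrev sig4 (k : Type u) [Field k] (r : ℕ) [Fact r.Prime] [CharP k r] [PerfectRing k r] (m : ℕ) :
    MulAut ↥(chevD4.group k) := gr inListD4 symmD4a * phi chevD4 k r m

section Six

variable (hp : IsType chevE6 6 CoxeterMatrix.E₆) (cs : CoxeterSystem CoxeterMatrix.E₆ W)

theorem fr_six : Fr cs hp.isCartan (TT chevE6 k) (XX chevE6 6 k) (gr hp.inList symmE6) (permE rho6) :=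
  fr_gr hp cs onSimple6 vecPerm6 (gr_sq6 hp.inList)

include hk in
/-- **`σ = gr * Frob`, type `E₆`.** -/
theorem fr_sig6 (m : ℕ) : Fr cs hp.isCartan (TT chevE6 k) (XX chevE6 6 k) (sig6 k r m) (permE rho6) := by
  have h := (fr_six hp cs).mul (phi_fr hp cs r hk m)
  exact h

omit hp in
theorem isFrob_sig6 (m : ℕ) : IsFrob r m (sig6 k r m) := by
  have h := (gr_isFrob symmE6 inListE6 r (k := k)).mul (phi_isFrob r m)
  rwa [zero_add] at h

end Six

section Four

variable (hp : IsType chevD4 4 Cfsg.Lie.coxeterD4) (cs : CoxeterSystem Cfsg.Lie.coxeterD4 W)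

theorem fr_four : Fr cs hp.isCartan (TT chevD4 k) (XX chevD4 4 k) (gr hp.inList symmD4a) (permE rho4) :=
  fr_gr hp cs onSimple4 vecPerm4 (gr_cube4 hp.inList)

include hk in
/-- **`σ = gr * Frob`, type `D₄`.** -/
theorem fr_sig4 (m : ℕ) : Fr cs hp.isCartan (TT chevD4 k) (XX chevD4 4 k) (sig4 k r m) (permE rho4) := by
  have h := (fr_four hp cs).mul (phi_fr hp cs r hk m)
  exact h

omit hp in
theorem isFrob_sig4 (m : ℕ) : IsFrob r m (sig4 k r m) := by
  have h := (gr_isFrob symmD4a inListD4 r (k := k)).mul (phi_isFrob r m)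
  rwa [zero_add] at h

end Four

end

/-! ### the fixed points -/

/-- an embedding of commutative groups of nearly equal orders -/
theorem pow_mem_of_card {A H : Type*} [CommGroup A] [Finite A] [Group H] {f : H →* A} (hf : Function.Injective f)
    {N m : ℕ} (hm : m * Nat.card H = N) (hA : Nat.card A ∣ N) (a : A) : a ^ m ∈ f.range := by
  have hfin : Finite H := Finite.of_injective f hf
  have h1 : Nat.card ↥f.range = Nat.card H := (Nat.card_congr (f.ofInjective hf).toEquiv).symm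
  have h2 := Subgroup.card_mul_index f.range
  have h3 : f.range.index ∣ m := by
    have h4 : Nat.card H * f.range.index ∣ Nat.card H * m := by
      rw [← h1, h2, h1, mul_comm, hm]
      exact hA
    exact Nat.dvd_of_mul_dvd_mul_left Nat.card_pos h4
  obtain ⟨c, hc⟩ := h3
  rw [hc, pow_mul]
  exact pow_mem (Subgroup.pow_index_mem _ a) c

theorem card_rou (k : Type u) [Field k] {n : ℕ} (hn : n ≠ 0) : Nat.card ↥(rootsOfUnity n k) ∣ n := by
  have : NeZero n := ⟨hn⟩
  have h1 := IsCyclic.exponent_eq_card (α := ↥(rootsOfUnity n k))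
  rw [← h1]
  refine Monoid.exponent_dvd_of_forall_pow_eq_one fun x => ?_
  exact Subtype.ext x.2

/-- products with a normalising element -/
theorem pow_mul_mem {Y : Type*} [Group Y] {R : Subgroup Y} {t x : Y} (hx : x ∈ R) (ht : ∀ z ∈ R, t * z * t⁻¹ ∈ R)
    (m : ℕ) : ∃ x' ∈ R, (x * t) ^ m = x' * t ^ m := by
  have ht' : ∀ m : ℕ, ∀ z ∈ R, t ^ m * z * (t ^ m)⁻¹ ∈ R := by
    intro m
    induction m with
    | zero => intro z hz; simpa using hz
    | succ m ih =>
      intro z hz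
      have e : t ^ (m + 1) * z * (t ^ (m + 1))⁻¹ = t * (t ^ m * z * (t ^ m)⁻¹) * t⁻¹ := by
        rw [pow_succ']; group
      rw [e]
      exact ht _ (ih z hz)
  induction m with
  | zero => exact ⟨1, one_mem _, by rw [pow_zero, pow_zero, mul_one]⟩
  | succ m ih =>
    obtain ⟨x', hx', e⟩ := ih
    refine ⟨x' * (t ^ m * x * (t ^ m)⁻¹), mul_mem hx' (ht' m x hx), ?_⟩
    rw [pow_succ, e, pow_succ]
    group

section Torus

open Cfsg.Agent.H129.TorusChar

variable {D : ChevalleyDatum} {l : ℕ} {M : CoxeterMatrix (Fin l)} (hp : IsType D l M) {k : Type u} [Field k]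
  {W : Type*} [Group W] (cs : CoxeterSystem M W) {p e : ℕ} [Fact p.Prime] [CharP k p] {σ : MulAut ↥(D.group k)}
  {g : (Fin l → ℤ) ≃+ (Fin l → ℤ)}

/-- the fixed points in the torus -/
def fixT (D : ChevalleyDatum) (k : Type u) [Field k] (σ : MulAut ↥(D.group k)) : Subgroup ↥(D.group k) :=
  TT D k ⊓ σ.toMonoidHom.eqLocus (MonoidHom.id _)

theorem cX_fix [IsAlgClosed k] (hσ : IsFrob p e σ) (F : Fr cs hp.isCartan (TT D k) (XX D l k) σ g)
    {t : ↥(D.group k)} (ht : t ∈ fixT D k σ) (j : ℕ) (x : Fin l → ℤ) :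
    cX hp t (g^[j] x) = cX hp t x ^ (p ^ e) ^ j := by
  induction j with
  | zero => rw [Function.iterate_zero_apply, pow_zero, pow_one]
  | succ j ih =>
    rw [Function.iterate_succ_apply']
    have h1 := cX_sigma hp cs hσ F ht.1 (g^[j] x)
    rw [show σ t = t from ht.2] at h1
    rw [h1, ih, ← pow_mul, ← pow_succ]

/-- **The order of the torus of the fixed points divides the product of the orders given by the orbits.** -/
theorem card_fixT [IsAlgClosed k] (he : 0 < e) (hσ : IsFrob p e σ)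
    (F : Fr cs hp.isCartan (TT D k) (XX D l k) σ g) {m : ℕ} (s : Fin m → Fin l) (j : Fin m → ℕ)
    (hj : ∀ a, 0 < j a) (hs : ∀ a, g^[j a] (sr (s a)) = sr (s a)) (hc : ∀ i, ∃ a b, g^[b] (sr (s a)) = sr i) :
    Finite ↥(fixT D k σ) ∧ Nat.card ↥(fixT D k σ) ∣ ∏ a, ((p ^ e) ^ j a - 1) := by
  have hQ : 1 < p ^ e := Nat.one_lt_pow he.ne' (Fact.out : p.Prime).one_lt
  have hne : ∀ a, (p ^ e) ^ j a - 1 ≠ 0 := by
    intro a
    have := Nat.one_lt_pow (hj a).ne' hQ
    omega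
  let f : ↥(fixT D k σ) →* (∀ a : Fin m, ↥(rootsOfUnity ((p ^ e) ^ j a - 1) k)) :=
    { toFun := fun t a => ⟨Units.mk0 (cX hp t.1 (sr (s a))) ((isMC_cX hp t.2.1).ne_zero _), by
        rw [mem_rootsOfUnity]
        apply Units.ext
        rw [Units.val_pow_eq_pow_val, Units.val_mk0, Units.val_one]
        have h1 := cX_fix hp cs hσ F t.2 (j a) (sr (s a))
        rw [hs] at h1
        have h0 := (isMC_cX hp t.2.1).ne_zero (sr (s a))
        have h2 : (p ^ e) ^ j a = ((p ^ e) ^ j a - 1) + 1 := by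
          have := hne a
          omega
        rw [h2, pow_succ] at h1
        exact (mul_eq_right₀ h0).1 h1.symm⟩
      map_one' := by
        funext a
        apply Subtype.ext
        apply Units.ext
        exact cX_one hp _
      map_mul' := fun t t' => by
        funext a
        apply Subtype.ext
        apply Units.ext
        exact cX_mul hp t.2.1 t'.2.1 _ }
  have hf : Function.Injective f := by
    intro t t' h
    apply Subtype.ext
    refine cX_inj hp t.2.1 t'.2.1 fun i => ?_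
    obtain ⟨a, b, hab⟩ := hc i
    have h1 : cX hp t.1 (sr (s a)) = cX hp t'.1 (sr (s a)) := by
      have h2 := congrFun h a
      exact congrArg (fun u : ↥(rootsOfUnity ((p ^ e) ^ j a - 1) k) => ((u : kˣ) : k)) h2
    rw [← hab, cX_fix hp cs hσ F t.2, cX_fix hp cs hσ F t'.2, h1]
  have hfin : ∀ a : Fin m, Finite ↥(rootsOfUnity ((p ^ e) ^ j a - 1) k) := by
    intro a
    have : NeZero ((p ^ e) ^ j a - 1) := ⟨hne a⟩
    infer_instance
  refine ⟨Finite.of_injective f hf, (Subgroup.card_dvd_of_injective f hf).trans ?_⟩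
  rw [Nat.card_pi]
  exact Finset.prod_dvd_prod_of_dvd _ _ fun a _ => card_rou k (hne a)

/-- **The descent to the group `G0`.** -/
theorem desc [IsAlgClosed k] [Finite ↥(fixT D k σ)] {N m : ℕ} (hA : Nat.card ↥(fixT D k σ) ∣ N)
    {H : Type*} [Group H] {ι : H →* ↥(D.group k)} (hι : Function.Injective ι) (hιT : ∀ h, ι h ∈ fixT D k σ)
    (hm : m * Nat.card H = N) {G0 : Type*} [Group G0] {e0 : G0 →* ↥(D.group k)} (hιr : ∀ h, ι h ∈ e0.range)
    (hfix : ∀ x, σ (e0 x) = e0 x)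
    (hnorm : ∀ t : ↥(D.group k), σ t = t → ∀ z ∈ e0.range, t * z * t⁻¹ ∈ e0.range)
    (hsplit : ∀ y : ↥(D.group k), σ y = y → ∃ x, ∃ t ∈ TT D k, y = e0 x * t)
    (hcomm : ∀ a ∈ TT D k, ∀ b ∈ TT D k, a * b = b * a) {y : ↥(D.group k)} (hy : σ y = y) : y ^ m ∈ e0.range := by
  obtain ⟨x, t, ht, rfl⟩ := hsplit y hy
  have hσt : σ t = t := by
    rw [map_mul, hfix] at hy
    exact mul_left_cancel hy
  let _ : CommGroup ↥(fixT D k σ) := { (inferInstance : Group ↥(fixT D k σ)) with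
    mul_comm := fun a b => Subtype.ext (hcomm a a.2.1 b b.2.1) }
  have h1 := pow_mem_of_card (A := ↥(fixT D k σ)) (f := ι.codRestrict (fixT D k σ) hιT)
    (fun a b h => hι (congrArg Subtype.val h)) hm hA ⟨t, ht, hσt⟩
  obtain ⟨h, hh⟩ := h1
  have h2 : ι h = t ^ m := congrArg Subtype.val hh
  obtain ⟨x', hx', e⟩ := pow_mul_mem (R := e0.range) ⟨x, rfl⟩ (hnorm t hσt) m
  rw [e, ← h2]
  exact mul_mem hx' (hιr h)

end Torus

/-! ### type ²E₆ -/

section Six

open Cfsg.Agent.H129.TorusChar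
open Cfsg.Agent.BpExc.FamField (frb frb_apply)

variable {K : Type u} [Field K] [Fintype K] {q : ℕ} {k : Type u} [Field k] [IsAlgClosed k] (f : K →+* k)
  (r : ℕ) [Fact r.Prime] [CharP k r] {W : Type v} [Group W]

/-- the embedding -/
noncomputable abbrev em6 (q : ℕ) (f : K →+* k) : ↥(twistedE6 K q) →* ↥(chevE6.group k) :=
  Cfsg.Agent.BpExc.FamTw.Six.em q f

theorem em6_fix {n : ℕ} (hn0 : 0 < n) (hn : q = r ^ n) (hK : Fintype.card K = q ^ 2) (a : ↥(twistedE6 K q)) :
    sig6 k r n (em6 q f a) = em6 q f a := by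
  have hrp : r.Prime := Fact.out
  have hq : IsPrimePow q := (isPrimePow_nat_iff _).2 ⟨r, n, hrp, hn0, hn.symm⟩
  obtain ⟨φ, hφ, hqq⟩ := Cfsg.Agent.ChevalleyStructure.TwE6Basic.exists_frob hq hK
  exact Cfsg.Agent.BpExc.FamTw.Six.sig_em hφ hqq f (Φ := frb k r n)
    (fun a => by rw [frb_apply, hφ, map_pow, hn]) a

theorem coe_sig6 (n : ℕ) (y : ↥(chevE6.group k)) :
    ((sig6 k r n y : ↥(chevE6.group k)) : GL chevE6.Idx k) =
      Cfsg.Agent.ChevalleyStructure.TwE6Basic.sg (iterateFrobenius k r n) (y : GL chevE6.Idx k) := by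
  show ((gr inListE6 symmE6 (phi chevE6 k r n y) : ↥(chevE6.group k)) : GL chevE6.Idx k) = _
  rw [coe_gr]
  show _ = symmE6.P k * Matrix.GeneralLinearGroup.map (iterateFrobenius k r n) (y : GL chevE6.Idx k) * (symmE6.P k)⁻¹
  congr 2
  apply Units.ext
  rw [phi_coe]
  rfl

theorem hp6 : IsType chevE6 6 CoxeterMatrix.E₆ := by simp [IsType, typeList]

/-- **The descent for `²E₆(q)`.** -/
theorem desc6 {n : ℕ} (hk : LocFin k) (hn0 : 0 < n) (hn : q = r ^ n) (hK : Fintype.card K = q ^ 2)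
    {y : ↥(chevE6.group k)} (hy : sig6 k r n y = y) : y ^ Nat.gcd 3 (q + 1) ∈ (em6 q f).range := by
  have hrp : r.Prime := Fact.out
  have hq : IsPrimePow q := (isPrimePow_nat_iff _).2 ⟨r, n, hrp, hn0, hn.symm⟩
  have cs := CoxeterMatrix.E₆.toCoxeterSystem
  have hφ : ∀ t : k, iterateFrobenius k r n t = t ^ q := fun t => by rw [iterateFrobenius_def, hn]
  obtain ⟨hfin, hdvd⟩ := card_fixT hp6 cs hn0 (isFrob_sig6 (k := k) r n) (fr_sig6 hk r hp6 cs n) (m := 4)
    ![1, 3, 0, 2] ![1, 1, 2, 2] (by decide) (by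
      intro a
      fin_cases a <;> · funext i; fin_cases i <;> rfl) (by
      intro i
      fin_cases i
      · exact ⟨2, 0, rfl⟩
      · exact ⟨0, 0, rfl⟩
      · exact ⟨3, 0, rfl⟩
      · exact ⟨1, 0, rfl⟩
      · exact ⟨3, 1, by funext i; fin_cases i <;> rfl⟩
      · exact ⟨2, 1, by funext i; fin_cases i <;> rfl⟩)
  rw [← hn] at hdvd
  have hcard := Cfsg.Agent.S1102.result (K := K) hq hK
  have hprod : ∏ a : Fin 4, (q ^ (![1, 1, 2, 2] : Fin 4 → ℕ) a - 1) = (q - 1) ^ 4 * (q + 1) ^ 2 := by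
    rw [Fin.prod_univ_four]
    show (q ^ 1 - 1) * (q ^ 1 - 1) * (q ^ 2 - 1) * (q ^ 2 - 1) = _
    have h1 : q ^ 2 - 1 = (q - 1) * (q + 1) := by
      have := Nat.sq_sub_sq q 1
      rw [one_pow] at this
      rw [this, mul_comm]
    rw [h1, pow_one]
    ring
  rw [hprod] at hdvd
  -- the torus of `²E₆(q)`
  let ι : ↥(chevE6.diagonalSubgroup K ⊓ twistedE6 K q) →* ↥(chevE6.group k) :=
    (em6 q f).comp (Subgroup.inclusion inf_le_right)
  have hTT : ∀ h, ι h ∈ TT chevE6 k := fun h =>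
    Cfsg.Agent.GpExc.Field.emb_T hp6 f ⟨⟨(h : GL chevE6.Idx K), _⟩, h.2.1, rfl⟩
  refine desc (σ := sig6 k r n) (e0 := em6 q f) hdvd (ι := ι) ((Cfsg.Agent.BpExc.FamTw.Six.em_injective f).comp
    (Subgroup.inclusion_injective _)) (fun h => ⟨hTT h, em6_fix f r hn0 hn hK _⟩) hcard (fun h => ⟨_, rfl⟩)
    (em6_fix f r hn0 hn hK) ?_ ?_ ?_ hy
  · intro t ht z hz
    obtain ⟨a, rfl⟩ := hz
    have h1 := Cfsg.Agent.BpExc.EmbInst.twE6_normalizer (f := f) hq hK hφ t.2 (by rw [← coe_sig6, ht])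
    have h2 := (Subgroup.mem_normalizer_iff.1 h1 (Cfsg.Agent.GpExc.Field.glMap chevE6 f a)).1 ⟨a, a.2, rfl⟩
    obtain ⟨b, hb, e⟩ := h2
    exact ⟨⟨b, hb⟩, Subtype.ext e⟩
  · intro y hy
    obtain ⟨x, hx, t, ht, e⟩ := Cfsg.Agent.BpExc.EmbInst.twE6_split (f := f) hq hK hφ y.2 (by rw [← coe_sig6, hy])
    exact ⟨⟨x, hx⟩, ⟨t, diagonal_le_group hp6.inList k ht⟩, ht, Subtype.ext e⟩
  · intro a ha b hb
    refine cX_inj hp6 (mul_mem ha hb) (mul_mem hb ha) fun i => ?_
    rw [cX_mul hp6 ha hb, cX_mul hp6 hb ha, mul_comm]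

end Six

/-! ### type ³D₄ -/

section Four

open Cfsg.Agent.H129.TorusChar
open Cfsg.Agent.BpExc.FamField (frb frb_apply)

variable {K : Type u} [Field K] [Fintype K] {q : ℕ} {k : Type u} [Field k] [IsAlgClosed k] (f : K →+* k)
  (r : ℕ) [Fact r.Prime] [CharP k r] {W : Type v} [Group W]

theorem tw4_le (hq : IsPrimePow q) (hK : Fintype.card K = q ^ 3) : twistedD4 K q ≤ chevD4.group K := by
  obtain ⟨φ0, hφ0⟩ := D4Fixed.exists_frob hq hK
  exact Cfsg.Agent.BpExc.EmbTw.G_le_group Cfsg.Agent.Nodes.RGDTwD4.foldData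
    (Cfsg.Agent.Nodes.RGDTwD4.foldGrp hφ0 (D4Fixed.twisted_le_fix hK hφ0))

/-- the embedding -/
noncomputable def em4 (f : K →+* k) (h : twistedD4 K q ≤ chevD4.group K) : ↥(twistedD4 K q) →* ↥(chevD4.group k) :=
  (Cfsg.Agent.GpExc.Field.emb inListD4 f).comp (Subgroup.inclusion h)

theorem em4_injective (h : twistedD4 K q ≤ chevD4.group K) : Function.Injective (em4 f h) :=
  (Cfsg.Agent.GpExc.Field.emb_injective inListD4 f).comp (Subgroup.inclusion_injective _)

theorem coe_sig4 (n : ℕ) (y : ↥(chevD4.group k)) :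
    ((sig4 k r n y : ↥(chevD4.group k)) : GL chevD4.Idx k) =
      D4Fixed.sig (iterateFrobenius k r n) (y : GL chevD4.Idx k) := by
  show ((gr inListD4 symmD4a (phi chevD4 k r n y) : ↥(chevD4.group k)) : GL chevD4.Idx k) = _
  rw [coe_gr]
  show _ = symmD4a.P k * Units.map (RingHom.mapMatrix (iterateFrobenius k r n) :
    Matrix chevD4.Idx chevD4.Idx k →+* Matrix chevD4.Idx chevD4.Idx k).toMonoidHom (y : GL chevD4.Idx k) *
    (symmD4a.P k)⁻¹
  congr 2
  apply Units.ext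
  rw [phi_coe]
  rfl

theorem em4_fix {n : ℕ} (h : twistedD4 K q ≤ chevD4.group K) (hn0 : 0 < n) (hn : q = r ^ n)
    (hK : Fintype.card K = q ^ 3) (a : ↥(twistedD4 K q)) : sig4 k r n (em4 f h a) = em4 f h a := by
  have hrp : r.Prime := Fact.out
  have hq : IsPrimePow q := (isPrimePow_nat_iff _).2 ⟨r, n, hrp, hn0, hn.symm⟩
  have hφ : ∀ t : k, iterateFrobenius k r n t = t ^ q := fun t => by rw [iterateFrobenius_def, hn]
  obtain ⟨-, h2⟩ := Cfsg.Agent.BpExc.EmbInst.twD4_fix (f := f) hq hK hφ a.2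
  apply Subtype.ext
  rw [coe_sig4]
  exact h2

theorem hp4 : IsType chevD4 4 coxeterD4 := by simp [IsType, typeList]

/-- **The descent for `³D₄(q)`.** -/
theorem desc4 {n : ℕ} (h : twistedD4 K q ≤ chevD4.group K) (hk : LocFin k) (hn0 : 0 < n) (hn : q = r ^ n)
    (hK : Fintype.card K = q ^ 3) {y : ↥(chevD4.group k)} (hy : sig4 k r n y = y) : y ∈ (em4 f h).range := by
  have hrp : r.Prime := Fact.out
  have hq : IsPrimePow q := (isPrimePow_nat_iff _).2 ⟨r, n, hrp, hn0, hn.symm⟩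
  have cs := coxeterD4.toCoxeterSystem
  have hφ : ∀ t : k, iterateFrobenius k r n t = t ^ q := fun t => by rw [iterateFrobenius_def, hn]
  obtain ⟨hfin, hdvd⟩ := card_fixT hp4 cs hn0 (isFrob_sig4 (k := k) r n) (fr_sig4 hk r hp4 cs n) (m := 2)
    ![1, 0] ![1, 3] (by decide) (by
      intro a
      fin_cases a <;> · funext i; fin_cases i <;> rfl) (by
      intro i
      fin_cases i
      · exact ⟨1, 0, rfl⟩
      · exact ⟨0, 0, rfl⟩
      · exact ⟨1, 1, by funext i; fin_cases i <;> rfl⟩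
      · exact ⟨1, 2, by funext i; fin_cases i <;> rfl⟩)
  rw [← hn] at hdvd
  have hcard := Cfsg.Agent.S1106.result (K := K) hq hK
  have hprod : ∏ a : Fin 2, (q ^ (![1, 3] : Fin 2 → ℕ) a - 1) = (q - 1) ^ 2 * (q ^ 2 + q + 1) := by
    rw [Fin.prod_univ_two]
    show (q ^ 1 - 1) * (q ^ 3 - 1) = _
    have h1 : q ^ 3 - 1 = (q - 1) * (q ^ 2 + q + 1) := by
      obtain ⟨c, hc⟩ : ∃ c, q = c + 1 := ⟨q - 1, by have := hq.two_le; omega⟩
      subst hc
      rw [Nat.add_sub_cancel]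
      refine Nat.sub_eq_of_eq_add ?_
      ring
    rw [h1, pow_one]
    ring
  rw [hprod] at hdvd
  let ι : ↥(chevD4.diagonalSubgroup K ⊓ twistedD4 K q) →* ↥(chevD4.group k) :=
    (em4 f h).comp (Subgroup.inclusion inf_le_right)
  have hTT : ∀ h, ι h ∈ TT chevD4 k := fun h =>
    Cfsg.Agent.GpExc.Field.emb_T hp4 f ⟨⟨(h : GL chevD4.Idx K), _⟩, h.2.1, rfl⟩
  have key := desc (σ := sig4 k r n) (e0 := em4 f h) hdvd (ι := ι) (m := 1) ((em4_injective f h).comp
    (Subgroup.inclusion_injective _)) (fun a => ⟨hTT a, em4_fix f r h hn0 hn hK _⟩) (by rw [one_mul]; exact hcard)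
    (fun h => ⟨_, rfl⟩) (em4_fix f r h hn0 hn hK) ?_ ?_ ?_ hy
  · rwa [pow_one] at key
  · intro t ht z hz
    obtain ⟨a, rfl⟩ := hz
    have h1 := Cfsg.Agent.BpExc.EmbInst.twD4_normalizer (f := f) hq hK hφ t.2 (by rw [← coe_sig4, ht])
    have h2 := (Subgroup.mem_normalizer_iff.1 h1 (Cfsg.Agent.GpExc.Field.glMap chevD4 f a)).1 ⟨a, a.2, rfl⟩
    obtain ⟨b, hb, e⟩ := h2
    exact ⟨⟨b, hb⟩, Subtype.ext e⟩
  · intro y hy
    obtain ⟨x, hx, t, ht, e⟩ := Cfsg.Agent.BpExc.EmbInst.twD4_split (f := f) hq hK hφ y.2 (by rw [← coe_sig4, hy])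
    exact ⟨⟨x, hx⟩, ⟨t, diagonal_le_group hp4.inList k ht⟩, ht, Subtype.ext e⟩
  · intro a ha b hb
    refine cX_inj hp4 (mul_mem ha hb) (mul_mem hb ha) fun i => ?_
    rw [cX_mul hp4 ha hb, cX_mul hp4 hb ha, mul_comm]

end Four

end Cfsg.Agent.H720.TwFr
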