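import Mathlib
import Cfsg.Agent.H722.RealP
import Cfsg.Agent.Prune
set_option linter.all false
prune_inst 0x7f00000000000000000000000000000000000000000000000000000000000000000000000000000000000000000000000000000000000000000000000000000000000000000000000000000000000000003fffffffffffffffffffffffffffbeffbdffffffff
open scoped Cfsg.Agent.FastGrp

/-!
# The rows of the table of real elements of prime order (helper720)

`Row p S`: the group `S` has an element of order `p` inverted by a 2-element, or its Sylow `p`-subgroups are cyclic, or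
`S` is isomorphic to `PSL_2(F)`, `F` a finite field of characteristic `p` with `|F| ≡ 3` modulo 4.
-/

set_option autoImplicit false

namespace Cfsg.Agent.H720.RowDef

open Cfsg.Agent.H722.RealP

universe u v

/-- The condition of the table. -/
def Row (p : ℕ) (S : Type u) [Group S] : Prop :=
  HasReal p S ∨ (∀ P : Sylow p S, IsCyclic P) ∨
    ∃ (F : Type) (_ : Field F) (_ : Fintype F), CharP F p ∧ Fintype.card F % 4 = 3 ∧
      Nonempty (S ≃* Matrix.ProjectiveSpecialLinearGroup (Fin 2) F)

theorem hasReal_congr {p : ℕ} {S : Type u} {T : Type v} [Group S] [Group T] (e : S ≃* T) (h : HasReal p S) :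
    HasReal p T := by
  obtain ⟨x, t, hx, ⟨k, hk⟩, h⟩ := h
  refine ⟨e x, e t, by rw [MulEquiv.orderOf_eq, hx], ⟨k, by rw [MulEquiv.orderOf_eq, hk]⟩, ?_⟩
  rw [← map_mul, ← map_inv, ← map_mul, h, map_inv]

theorem cyclic_congr {p : ℕ} {S : Type u} {T : Type v} [Group S] [Group T] (e : S ≃* T)
    (h : ∀ P : Sylow p S, IsCyclic P) (Q : Sylow p T) : IsCyclic Q := by
  obtain ⟨P, hP⟩ : ∃ P : Sylow p S, (P : Subgroup S) = (Q : Subgroup T).comap e.toMonoidHom :=
    ⟨Q.comapOfInjective e.toMonoidHom e.injective (by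
      rw [MonoidHom.range_eq_top.2 e.surjective]
      exact le_top), rfl⟩
  have h1 := h P
  have hmem' : ∀ x : S, x ∈ (P : Subgroup S) → e x ∈ (Q : Subgroup T) := by
    intro x h2
    rw [hP] at h2
    exact h2
  have hmem : ∀ x : ↥(P : Subgroup S), e (x : S) ∈ (Q : Subgroup T) := fun x => hmem' x x.2
  let f : ↥(P : Subgroup S) →* ↥(Q : Subgroup T) :=
    { toFun := fun x => ⟨e (x : S), hmem x⟩
      map_one' := Subtype.ext (map_one e)
      map_mul' := fun a b => Subtype.ext (map_mul e _ _) }
  refine isCyclic_of_surjective f (fun y => ?_)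
  have h3 : e.symm (y : T) ∈ (P : Subgroup S) := by
    rw [hP]
    show e (e.symm (y : T)) ∈ (Q : Subgroup T)
    rw [e.apply_symm_apply]
    exact y.2
  exact ⟨⟨e.symm (y : T), h3⟩, Subtype.ext (e.apply_symm_apply _)⟩

theorem Row.congr {p : ℕ} {S : Type u} {T : Type v} [Group S] [Group T] (e : S ≃* T) (h : Row p S) : Row p T := by
  rcases h with h | h | ⟨F, i1, i2, h1, h2, ⟨e'⟩⟩
  · exact Or.inl (hasReal_congr e h)
  · exact Or.inr (Or.inl (cyclic_congr e h))
  · exact Or.inr (Or.inr ⟨F, i1, i2, h1, h2, ⟨e.symm.trans e'⟩⟩)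

/-- one Sylow subgroup is enough -/
theorem Row.of_sylow {p : ℕ} [Fact p.Prime] {S : Type u} [Group S] [Finite S] (P : Sylow p S) (hP : IsCyclic P) :
    Row p S := by
  refine Or.inr (Or.inl fun Q => ?_)
  obtain ⟨g, hg⟩ := MulAction.exists_smul_eq S P Q
  subst hg
  exact isCyclic_of_surjective (P.equivSMul g) (P.equivSMul g).surjective

/-- an element of order the full `p`-part of the group order -/
theorem Row.of_orderOf {p : ℕ} [Fact p.Prime] {S : Type u} [Group S] [Finite S] {x : S}
    (hx : orderOf x = p ^ (Nat.card S).factorization p) : Row p S := by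
  have hcard : Nat.card ↥(Subgroup.zpowers x) = p ^ (Nat.card S).factorization p := by rw [Nat.card_zpowers, hx]
  exact Row.of_sylow (Sylow.ofCard (Subgroup.zpowers x) hcard) (inferInstanceAs (IsCyclic ↥(Subgroup.zpowers x)))

/-- `p²` does not divide the order -/
theorem Row.of_sq_not_dvd {p : ℕ} [Fact p.Prime] {S : Type u} [Group S] [Finite S] (h : ¬ p ^ 2 ∣ Nat.card S) :
    Row p S := by
  obtain ⟨P⟩ : Nonempty (Sylow p S) := inferInstance
  refine Row.of_sylow P ?_
  have h1 := P.card_eq_multiplicity
  have h2 : (Nat.card S).factorization p ≤ 1 := by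
    by_contra h3
    push Not at h3
    exact h ((Nat.Prime.pow_dvd_iff_le_factorization Fact.out Nat.card_pos.ne').2 h3)
  rcases Nat.le_one_iff_eq_zero_or_eq_one.1 h2 with h3 | h3
  · rw [h3, pow_zero] at h1
    have : Subsingleton ↥P := (Nat.card_eq_one_iff_unique.1 h1).1
    infer_instance
  · rw [h3, pow_one] at h1
    exact isCyclic_of_prime_card (p := p) h1

end Cfsg.Agent.H720.RowDef
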